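import Mathlib

set_option autoImplicit false
open scoped BigOperators

namespace Groth.Agent.Lib.Helper5.CDvr

universe u

section Complete
variable (K : Type u) [CommRing K]

theorem mem_span_X_pow_iff (n : ℕ) (f : PowerSeries K) :
    f ∈ (Ideal.span {(PowerSeries.X : PowerSeries K)}) ^ n ↔ ∀ m < n, PowerSeries.coeff m f = 0 := by
  rw [Ideal.span_singleton_pow, Ideal.mem_span_singleton, PowerSeries.X_pow_dvd_iff]

theorem isAdicComplete_span_X :
    IsAdicComplete (Ideal.span {(PowerSeries.X : PowerSeries K)}) (PowerSeries K) := by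
  haveI : IsHausdorff (Ideal.span {(PowerSeries.X : PowerSeries K)}) (PowerSeries K) := by
    constructor
    intro f hf
    ext m
    have := hf (m + 1)
    rw [SModEq.zero, smul_eq_mul, Ideal.mul_top, mem_span_X_pow_iff] at this
    rw [this m (Nat.lt_succ_self m), map_zero]
  haveI : IsPrecomplete (Ideal.span {(PowerSeries.X : PowerSeries K)}) (PowerSeries K) := by
    constructor
    intro f hf
    refine ⟨PowerSeries.mk fun i => PowerSeries.coeff i (f (i + 1)), fun n => ?_⟩
    rw [SModEq.sub_mem, smul_eq_mul, Ideal.mul_top, mem_span_X_pow_iff]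
    intro m hm
    rw [map_sub, PowerSeries.coeff_mk, sub_eq_zero]
    have := hf (show m + 1 ≤ n by omega)
    rw [SModEq.sub_mem, smul_eq_mul, Ideal.mul_top, mem_span_X_pow_iff] at this
    have h2 := this m (Nat.lt_succ_self m)
    rw [map_sub, sub_eq_zero] at h2
    exact h2.symm
  exact ⟨⟩

end Complete

section Main
variable (k : Type u) [Field k]

/-- the coefficient field -/
abbrev Kb : Type u := AlgebraicClosure (FractionRing (MvPowerSeries (Fin 1) k))

/-- the embedding of one-variable series into the big field -/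
noncomputable def ιK : MvPowerSeries (Fin 1) k →+* Kb k :=
  (algebraMap (FractionRing (MvPowerSeries (Fin 1) k)) (Kb k)).comp
    (algebraMap (MvPowerSeries (Fin 1) k) (FractionRing (MvPowerSeries (Fin 1) k)))

theorem ιK_injective : Function.Injective (ιK k) :=
  (algebraMap (FractionRing (MvPowerSeries (Fin 1) k)) (Kb k)).injective.comp
    (IsFractionRing.injective _ _)

/-- the map from two-variable series -/
noncomputable def ψ : MvPowerSeries (Fin 2) k →+* PowerSeries (Kb k) :=
  (PowerSeries.map (ιK k)).comp (MvPowerSeries.finSuccEquiv k 1).toRingEquiv.toRingHom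

theorem ψ_injective : Function.Injective (ψ k) :=
  (PowerSeries.map_injective _ (ιK_injective k)).comp (MvPowerSeries.finSuccEquiv k 1).injective

theorem ψ_X : ψ k (MvPowerSeries.X 0) = PowerSeries.X := by
  change PowerSeries.map (ιK k) (MvPowerSeries.finSuccEquiv k 1 (MvPowerSeries.X 0)) = _
  rw [MvPowerSeries.finSuccEquiv_X_zero, PowerSeries.map_X]

theorem isUnit_ψ_iff (f : MvPowerSeries (Fin 2) k) :
    IsUnit (ψ k f) ↔ f ∉ Ideal.span {(MvPowerSeries.X 0 : MvPowerSeries (Fin 2) k)} := by
  rw [PowerSeries.isUnit_iff_constantCoeff, isUnit_iff_ne_zero, Ideal.mem_span_singleton]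
  change PowerSeries.constantCoeff (PowerSeries.map (ιK k) (MvPowerSeries.finSuccEquiv k 1 f)) ≠ 0 ↔ _
  rw [← PowerSeries.coeff_zero_eq_constantCoeff_apply, PowerSeries.coeff_map,
    PowerSeries.coeff_zero_eq_constantCoeff_apply, Ne, map_eq_zero_iff _ (ιK_injective k),
    ← PowerSeries.X_dvd_iff, ← MvPowerSeries.finSuccEquiv_X_zero (R := k) (n := 1)]
  constructor
  · rintro h ⟨g, rfl⟩
    exact h ⟨MvPowerSeries.finSuccEquiv k 1 g, map_mul _ _ _⟩
  · rintro h ⟨g, hg⟩
    apply h
    refine ⟨(MvPowerSeries.finSuccEquiv k 1).symm g, ?_⟩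
    apply (MvPowerSeries.finSuccEquiv k 1).injective
    rw [hg, map_mul, AlgEquiv.apply_symm_apply]

theorem main (k : Type u) [Field k]
    (P : Ideal (MvPowerSeries (Fin 2) k))
    (hP : P = Ideal.span {(MvPowerSeries.X 0 : MvPowerSeries (Fin 2) k)}) [P.IsPrime] :
    ∃ (A : Type u) (_ : CommRing A) (_ : IsDomain A) (_ : IsDiscreteValuationRing A) (_ : Algebra k A)
      (φ : Localization.AtPrime P →ₐ[k] A),
      IsAdicComplete (IsLocalRing.maximalIdeal A) A ∧ IsAlgClosed (IsLocalRing.ResidueField A) ∧
        Function.Injective φ ∧ IsLocalHom φ.toRingHom ∧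
          Irreducible (φ (algebraMap (MvPowerSeries (Fin 2) k) (Localization.AtPrime P)
            (MvPowerSeries.X 0))) := by
  have hunits : ∀ y : P.primeCompl, IsUnit (ψ k (y : MvPowerSeries (Fin 2) k)) := by
    intro y
    rw [isUnit_ψ_iff, ← hP]
    exact y.2
  let φ0 : Localization.AtPrime P →+* PowerSeries (Kb k) :=
    IsLocalization.lift (M := P.primeCompl) (g := ψ k) hunits
  have hφ0 : ∀ r, φ0 (algebraMap _ _ r) = ψ k r := fun r => IsLocalization.lift_eq _ _
  letI alg : Algebra k (PowerSeries (Kb k)) :=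
    ((ψ k).comp (algebraMap k (MvPowerSeries (Fin 2) k))).toAlgebra
  let φ : Localization.AtPrime P →ₐ[k] PowerSeries (Kb k) :=
    { φ0 with
      commutes' := by
        intro c
        change φ0 (algebraMap k (Localization.AtPrime P) c) = ψ k (algebraMap k _ c)
        rw [IsScalarTower.algebraMap_apply k (MvPowerSeries (Fin 2) k) (Localization.AtPrime P), hφ0] }
  have hφ : ∀ x, φ x = φ0 x := fun _ => rfl
  refine ⟨PowerSeries (Kb k), inferInstance, inferInstance, inferInstance, alg, φ, ?_, ?_, ?_, ?_, ?_⟩
  · rw [PowerSeries.maximalIdeal_eq_span_X]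
    exact isAdicComplete_span_X (Kb k)
  · exact IsAlgClosed.of_ringEquiv (Kb k) _ (PowerSeries.residueFieldOfPowerSeries (k := Kb k)).symm
  · intro x y hxy
    rw [hφ, hφ] at hxy
    have := (IsLocalization.lift_injective_iff (M := P.primeCompl) (S := Localization.AtPrime P)
      (g := ψ k) hunits).mpr (by
        intro a b
        constructor
        · intro h
          rw [(IsLocalization.injective (Localization.AtPrime P) (P.primeCompl_le_nonZeroDivisors)) h]
        · intro h
          rw [ψ_injective k h])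
    exact this hxy
  · constructor
    intro a ha
    obtain ⟨r, s, rfl⟩ := IsLocalization.exists_mk'_eq P.primeCompl a
    rw [IsLocalization.AtPrime.isUnit_mk'_iff (Localization.AtPrime P) P]
    change IsUnit (φ0 (IsLocalization.mk' _ r s)) at ha
    have h1 : φ0 (IsLocalization.mk' (Localization.AtPrime P) r s) * ψ k s = ψ k r := by
      rw [← hφ0 s, ← map_mul, IsLocalization.mk'_spec, hφ0]
    have h2 : IsUnit (ψ k r) := by
      rw [← h1]; exact ha.mul (hunits s)
    rw [isUnit_ψ_iff, ← hP] at h2
    exact h2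
  · rw [hφ, hφ0, ψ_X]
    exact PowerSeries.X_irreducible

end Main

end Groth.Agent.Lib.Helper5.CDvr
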